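import Cfsg.Agent.H481.EP12.Tools
import Cfsg.Agent.H107.EP.Eight
import Cfsg.Agent.H933.HT.U33T
import Cfsg.Agent.S2074
import Cfsg.Agent.SporadicRecognition.SuzOrder
import Cfsg.Prelude.Def_Spor_Suz

/-!
# S3499, unitary residual rows in dimension 7, 8, 11, 12 from the general bound (helper481)

The lists S5812, S5821, S5857, S5866 are hypotheses; left over: `Suz < U₁₂(2)`.
-/

set_option autoImplicit false

namespace Cfsg.Agent.H481.EP12

open Subgroup Cfsg Cfsg.Agent.H284 Cfsg.Agent.H419.EP Cfsg.Agent.H59.EP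
open scoped MatrixGroups

/-! ### orders -/

theorem pow_le {Q : Type*} [Group Q] {F : Type*} [Field F] [Fintype F] {n q k : ℕ} (hF : Fintype.card F = q ^ 2)
    (hk : k + 2 = n * (n - 1)) (hn : 1 ≤ n) (m : Model Q (Cfsg.GU n F q ⊓ Cfsg.Geo.specialLinear (Fin n) F)) {b : ℕ}
    (hb : b ≤ q) (hb0 : 0 < b) : b ^ k ≤ Nat.card Q := by
  have h1 := H107.EP.pow_le_SU hF hn m
  have hq : 0 < q := by omega
  have h2 : q ^ k * q ^ 2 ≤ Nat.card Q * q ^ 2 := by
    rw [← pow_add, hk]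
    exact h1.trans (Nat.mul_le_mul_left _ (Nat.sub_le _ _))
  exact (Nat.pow_le_pow_left hb k).trans (Nat.le_of_mul_le_mul_right h2 (pow_pos hq 2))

/-! ### automorphism groups -/

theorem aut_l223 : Nat.card (MulAut (Matrix.ProjectiveSpecialLinearGroup (Fin 2) (ZMod 23))) = 12144 := by
  have : Fact (Nat.Prime 23) := ⟨by norm_num⟩
  rw [Cfsg.Agent.S0813.result 23 1 le_rfl (by rw [ZMod.card, pow_one]) 2 le_rfl (fun _ => by norm_num),
    Cfsg.Agent.S0265.result, Cfsg.Agent.ClassicalGeometry.PSL2Basic.card_SL2, ZMod.card]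
  norm_num

theorem aut_u52 {K : Type} [Field K] [Fintype K] (hK : Fintype.card K = 4) :
    Nat.card (MulAut (Cfsg.PSU 5 K 2)) ∣ 27371520 := by
  have h2 : Fact (Nat.Prime 2) := ⟨Nat.prime_two⟩
  have hK' : Fintype.card K = 2 ^ 2 := by rw [hK]; norm_num
  have h := S0815.result 2 1 le_rfl (by norm_num) hK' 5 (by norm_num) (by norm_num)
  have h1 := S0280.result hK' 5 (by norm_num)
  simp [Finset.prod_range_succ, Nat.even_iff] at h1
  have h2 : Nat.card (Cfsg.PSU 5 K 2) = 13685760 := by omega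
  rw [h, h2]
  norm_num

theorem aut_suz {L : Type*} [Group L] (h : Spor.IsoSuz L) : Nat.card (MulAut L) ∣ 896690995200 := by
  obtain ⟨e⟩ := h
  have hc := SporadicRecognition.SuzOrder.card_Suz
  have : Finite Spor.Suz := Nat.finite_of_card_ne_zero (by rw [hc]; norm_num)
  rw [Nat.card_congr (MulAut.congr e).toEquiv]
  refine (card_aut_dvd _).trans ?_
  rw [hc, S2074.result]

/-! ### the numbers -/

theorem ubq_u33 : ubq [(2, 6), (3, 3), (7, 1)] < 5 ^ 40 := by decide +kernel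

theorem ubq_l34 : ubq [(2, 8), (3, 3), (5, 1), (7, 1)] < 5 ^ 54 := by decide +kernel

theorem ubq_l223 : ubq [(2, 4), (3, 1), (11, 1), (23, 1)] < 5 ^ 108 := by decide +kernel

theorem ubq_u52 : ubq [(2, 11), (3, 5), (5, 1), (11, 1)] < 5 ^ 108 := by decide +kernel

theorem ubq_suz : ubq [(2, 14), (3, 7), (5, 2), (7, 1), (11, 1), (13, 1)] < 5 ^ 130 := by decide +kernel

/-! ### the lists -/

/-- the list S5812 -/
def R5812 : Prop := ∀ {F : Type} [Field F] [Fintype F] (q : ℕ), Fintype.card F = q ^ 2 →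
    ∀ (H : Subgroup (Matrix.GeneralLinearGroup (Fin 7) F)),
    Cfsg.Geo.IsMaximalIn (Cfsg.GU 7 F q ⊓ Cfsg.Geo.specialLinear (Fin 7) F) H → Cfsg.Geo.InUnitaryResidualClass H →
    ∃ P : Subgroup (Matrix.GeneralLinearGroup (Fin 7) F), Cfsg.Geo.IsResidualCore H P ∧ 5 ≤ q ∧
    (∃ (K : Type) (_ : Field K) (_ : Fintype K), Fintype.card K = 9 ∧
      Nonempty ((P ⧸ (Cfsg.Geo.scalars (Fin 7) F).subgroupOf P) ≃* Cfsg.PSU 3 K 3))

/-- the list S5857 -/
def R5857 : Prop := ∀ {F : Type} [Field F] [Fintype F] (q : ℕ), Fintype.card F = q ^ 2 →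
    ∀ (H : Subgroup (Matrix.GeneralLinearGroup (Fin 11) F)),
    Cfsg.Geo.IsMaximalIn (Cfsg.GU 11 F q ⊓ Cfsg.Geo.specialLinear (Fin 11) F) H → Cfsg.Geo.InUnitaryResidualClass H →
    ∃ P : Subgroup (Matrix.GeneralLinearGroup (Fin 11) F), Cfsg.Geo.IsResidualCore H P ∧ 5 ≤ q ∧
    (Nonempty ((P ⧸ (Cfsg.Geo.scalars (Fin 11) F).subgroupOf P) ≃* Matrix.ProjectiveSpecialLinearGroup (Fin 2) (ZMod 23)) ∨
     (∃ (K : Type) (_ : Field K) (_ : Fintype K), Fintype.card K = 4 ∧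
      Nonempty ((P ⧸ (Cfsg.Geo.scalars (Fin 11) F).subgroupOf P) ≃* Cfsg.PSU 5 K 2)))

/-- the list S5866 -/
def R5866 : Prop := ∀ {F : Type} [Field F] [Fintype F] (q : ℕ), Fintype.card F = q ^ 2 →
    ∀ (H : Subgroup (Matrix.GeneralLinearGroup (Fin 12) F)),
    Cfsg.Geo.IsMaximalIn (Cfsg.GU 12 F q ⊓ Cfsg.Geo.specialLinear (Fin 12) F) H → Cfsg.Geo.InUnitaryResidualClass H →
    ∃ P : Subgroup (Matrix.GeneralLinearGroup (Fin 12) F), Cfsg.Geo.IsResidualCore H P ∧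
    ((Nonempty ((P ⧸ (Cfsg.Geo.scalars (Fin 12) F).subgroupOf P) ≃*
        Matrix.ProjectiveSpecialLinearGroup (Fin 2) (ZMod 23)) ∧ 5 ≤ q) ∨
     (Cfsg.Spor.IsoSuz (P ⧸ (Cfsg.Geo.scalars (Fin 12) F).subgroupOf P) ∧ (q = 2 ∨ 5 ≤ q)))

/-! ### the rows -/

variable {Q : Type} [Group Q] [Finite Q] {A : Subgroup Q} {Γ : Subgroup (MulAut Q)}

theorem row_seven (hl : R5812) (hs : IsSimpleGroup Q) (h : EPT A Γ) {F : Type} [Field F] [Fintype F] {q : ℕ}
    (hF : Fintype.card F = q ^ 2) (m : Model Q (Cfsg.GU 7 F q ⊓ Cfsg.Geo.specialLinear (Fin 7) F))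
    (hres : Cfsg.Geo.InUnitaryResidualClass (m.hat A)) : False := by
  obtain ⟨P, hP, hq, K, _, _, hK, ⟨e⟩⟩ := hl q hF (m.hat A) (m.isMaximalIn h.max) hres
  have h1 := card_le_core hs h m hP e [(2, 6), (3, 3), (7, 1)] (by simp; norm_num) (by decide)
    (by rw [H933.HT.u33_aut (by rw [hK]; norm_num)]; norm_num) (by norm_num)
  have h2 := pow_le (k := 40) hF (by norm_num) (by norm_num) m hq (by norm_num)
  exact absurd (h2.trans h1) (not_le.2 ubq_u33)

theorem row_eight (hl : H107.EP.ListU) (hs : IsSimpleGroup Q) (h : EPT A Γ) {F : Type} [Field F] [Fintype F] {q : ℕ}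
    (hF : Fintype.card F = q ^ 2) (m : Model Q (Cfsg.GU 8 F q ⊓ Cfsg.Geo.specialLinear (Fin 8) F))
    (hres : Cfsg.Geo.InUnitaryResidualClass (m.hat A)) : False := by
  obtain ⟨P, hP, hp, hq, ⟨K, _, _, hK, ⟨e⟩⟩⟩ := hl q hF (m.hat A) (m.isMaximalIn h.max) hres
  have hq5 : 5 ≤ q := by omega
  have h1 := card_le_core hs h m hP e [(2, 8), (3, 3), (5, 1), (7, 1)] (by simp; norm_num) (by decide)
    (by rw [H107.EP.card_aut_l34 hK]; norm_num) (by norm_num)
  have h2 := pow_le (k := 54) hF (by norm_num) (by norm_num) m hq5 (by norm_num)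
  exact absurd (h2.trans h1) (not_le.2 ubq_l34)

theorem row_eleven (hl : R5857) (hs : IsSimpleGroup Q) (h : EPT A Γ) {F : Type} [Field F] [Fintype F] {q : ℕ}
    (hF : Fintype.card F = q ^ 2) (m : Model Q (Cfsg.GU 11 F q ⊓ Cfsg.Geo.specialLinear (Fin 11) F))
    (hres : Cfsg.Geo.InUnitaryResidualClass (m.hat A)) : False := by
  obtain ⟨P, hP, hq, h0⟩ := hl q hF (m.hat A) (m.isMaximalIn h.max) hres
  have h2 := pow_le (k := 108) hF (by norm_num) (by norm_num) m hq (by norm_num)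
  rcases h0 with ⟨⟨e⟩⟩ | ⟨K, _, _, hK, ⟨e⟩⟩
  · have h1 := card_le_core hs h m hP e [(2, 4), (3, 1), (11, 1), (23, 1)] (by simp; norm_num) (by decide)
      (by rw [aut_l223]; norm_num) (by norm_num)
    exact absurd (h2.trans h1) (not_le.2 ubq_l223)
  · have h1 := card_le_core hs h m hP e [(2, 11), (3, 5), (5, 1), (11, 1)] (by simp; norm_num) (by decide)
      ((aut_u52 hK).trans (by norm_num)) (by norm_num)
    exact absurd (h2.trans h1) (not_le.2 ubq_u52)

/-- the missing case `Suz < U₁₂(2)` -/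
def SuzTwelve : Prop := ∀ {Q : Type} [Group Q] [Finite Q], IsSimpleGroup Q → ∀ {A : Subgroup Q}
    {Γ : Subgroup (MulAut Q)}, EPT A Γ → ∀ {F : Type} [Field F] [Fintype F], Fintype.card F = 2 ^ 2 →
    Model Q (Cfsg.GU 12 F 2 ⊓ Cfsg.Geo.specialLinear (Fin 12) F) → ∀ (L : Type) [Group L], Spor.IsoSuz L →
    HasSoc A L → False

theorem row_twelve (hl : R5866) (hsuz : SuzTwelve) (hs : IsSimpleGroup Q) (h : EPT A Γ) {F : Type} [Field F]
    [Fintype F] {q : ℕ} (hF : Fintype.card F = q ^ 2)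
    (m : Model Q (Cfsg.GU 12 F q ⊓ Cfsg.Geo.specialLinear (Fin 12) F))
    (hres : Cfsg.Geo.InUnitaryResidualClass (m.hat A)) : False := by
  obtain ⟨P, hP, h0⟩ := hl q hF (m.hat A) (m.isMaximalIn h.max) hres
  rcases h0 with ⟨⟨e⟩, hq⟩ | ⟨hL, rfl | hq⟩
  · have h2 := pow_le (k := 130) hF (by norm_num) (by norm_num) m hq (by norm_num)
    have h1 := card_le_core hs h m hP e [(2, 4), (3, 1), (11, 1), (23, 1)] (by simp; norm_num) (by decide)
      (by rw [aut_l223]; norm_num) (by norm_num)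
    exact absurd (h2.trans h1) (not_le.2 (ubq_l223.trans (by norm_num)))
  · exact hsuz hs h hF m _ hL (hasSoc_of_core m hP)
  · have h2 := pow_le (k := 130) hF (by norm_num) (by norm_num) m hq (by norm_num)
    have h1 := card_le_core hs h m hP (MulEquiv.refl _) [(2, 14), (3, 7), (5, 2), (7, 1), (11, 1), (13, 1)]
      (by simp; norm_num) (by decide) ((aut_suz hL).trans (by norm_num)) (by norm_num)
    exact absurd (h2.trans h1) (not_le.2 ubq_suz)

end Cfsg.Agent.H481.EP12
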