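import Cfsg.Agent.H419.EP.Big
import Cfsg.Agent.H358.EP.U3F
import Cfsg.Agent.H781.EP.RowU4
import Cfsg.Agent.H219.EP.RowSU5
import Cfsg.Agent.H104.EP.U42
import Cfsg.Agent.H417.EP.Eleven
import Cfsg.Agent.H835.EP.RowSU6C
import Cfsg.Agent.H52.EP.U43Fin
import Cfsg.Agent.H968.EPU.Tight
import Cfsg.Agent.H35.EP.OwnNine
import Cfsg.Agent.H296.JT.Main
import Cfsg.Agent.H587.UF.RowFin
import Cfsg.Agent.H775.EPS.SuzFin
import Cfsg.Agent.H481.EP12.Rows
import Cfsg.Agent.OrdDiv.Table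
import Cfsg.Agent.S0000
import Cfsg.Agent.S5803
import Cfsg.Agent.S5812
import Cfsg.Agent.S5821
import Cfsg.Agent.S5842
import Cfsg.Agent.S5857
import Cfsg.Agent.S5866

/-!
# S3499, `PsuRes12`: the unitary residual class in dimension at most 12 (helper481)

`psuRes12 : PsuRes12`.
-/

set_option autoImplicit false

namespace Cfsg.Agent.H481.EP12

open Subgroup Cfsg Cfsg.Agent.H284 Cfsg.Agent.H419.EP Cfsg.Agent.H59.EP
open scoped MatrixGroups

/-! ### the lists -/

theorem r5812 : R5812 := by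
  intro F _ _ q hF H hH hS
  obtain ⟨P, hP, hp, hp4, hq3, K, iK, iK', hK, e⟩ := S5812.result q hF H hH hS
  exact ⟨P, hP, by omega, K, iK, iK', hK, e⟩

theorem r5857 : R5857 := by
  intro F _ _ q hF H hH hS
  obtain ⟨P, hP, hp, ⟨e, hq⟩ | ⟨⟨K, iK, iK', hK, e⟩, h3, h2⟩⟩ := S5857.result q hF H hH hS
  · exact ⟨P, hP, by omega, Or.inl e⟩
  · exact ⟨P, hP, by have := hp.two_le; omega, Or.inr ⟨K, iK, iK', hK, e⟩⟩

theorem r5866 : R5866 := by
  intro F _ _ q hF H hH hS
  obtain ⟨P, hP, hp, ⟨e, hq⟩ | ⟨e, h3⟩⟩ := S5866.result q hF H hH hS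
  · exact ⟨P, hP, Or.inl ⟨e, by omega⟩⟩
  · exact ⟨P, hP, Or.inr ⟨e, by have := hp.two_le; omega⟩⟩

theorem suzTwelve : SuzTwelve := by
  intro Q _ _ hs A Γ h F _ _ hF m L _ hL hsoc
  have h1 := pow_le (k := 130) hF (by norm_num) (by norm_num) m (le_refl 2) (by norm_num)
  have h2 := H775.EPS.index_le_suz hs h hL hsoc
  have hLf : Finite L := by
    obtain ⟨e⟩ := hL
    have : Finite Spor.Suz :=
      Nat.finite_of_card_ne_zero (by rw [SporadicRecognition.SuzOrder.card_Suz]; norm_num)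
    exact Finite.of_equiv _ e.symm.toEquiv
  have h3 : Nat.card A ≤ 896690995200 := hsoc.card_le.trans (Nat.le_of_dvd (by norm_num) (aut_suz hL))
  have h4 : Nat.card Q ≤ 896690995200 * 2 ^ 82 := by
    rw [← A.card_mul_index]
    exact Nat.mul_le_mul h3 h2
  norm_num at h1 h4
  omega

theorem base : H940.Eng.Base := ⟨OrdDiv.table, fun _ _ _ _ => S0000.result⟩

/-- **The unitary residual class in dimension at most 12.** -/
theorem psuRes12 : PsuRes12 := by
  intro Q _ _ hs A Γ h F _ _ n q m hF h3 h12 n1 n2 hres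
  have hq2 : 2 ≤ q := by
    by_contra hcon
    have h1 := Fintype.one_lt_card (α := F)
    have h2 : q ^ 2 ≤ 1 ^ 2 := Nat.pow_le_pow_left (by omega) 2
    omega
  obtain rfl | rfl | rfl | rfl | rfl | rfl | rfl | rfl | rfl | rfl : n = 3 ∨ n = 4 ∨ n = 5 ∨ n = 6 ∨ n = 7 ∨ n = 8 ∨
      n = 9 ∨ n = 10 ∨ n = 11 ∨ n = 12 := by omega
  · have hq3 : 3 ≤ q := by
      have : q ≠ 2 := fun e => n1 ⟨rfl, e⟩
      omega
    exact H358.EP.row_u3 h m hF hq3 hres
  · exact H781.EP.row h m hF (fun e => n2 ⟨rfl, e⟩) hres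
  · refine H219.EP.row_of h m hF hres ?_ (fun K _ _ hK a => (H104.EP.index_le_u42 h hK a).trans (by norm_num))
    rintro ⟨N, k1, k2, k3, ⟨e⟩⟩
    exact H417.EP.Eleven.index_le' h k1 k2 e k3
  · exact H835.EP.row_su_six twoGen OrdDiv.table (fun _ _ _ _ => S0000.result)
      (fun {_} _ _ hs {_} {_} h {_} _ _ hK a => H52.EP.u43_index hs h hK a)
      (fun {_} _ _ hs {_} {_} h {_} _ _ hF m hQ {_} _ _ hK a => H968.EPU.u43_u62 hs h hF m hQ hK a)
      (fun X hX hS => S5803.result q hF X hX hS) hs h m hF hres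
  · exact row_seven r5812 hs h hF m hres
  · exact row_eight (fun {_} _ _ q hF X hX hS => S5821.result q hF X hX hS) hs h hF m hres
  · exact H825.EP.row_two hs h hF m hres (fun a => H35.EP.u3_nine twoGen hs h hF m a)
      (fun L _ hL a => H296.JT.index_j3 base hs h hL a)
  · exact H587.UF.row_fin twoGen (fun X hX hS => S5842.result q hF X hX hS) hs h m hF hres
  · exact row_eleven r5857 hs h hF m hres
  · exact row_twelve r5866 suzTwelve hs h hF m hres

end Cfsg.Agent.H481.EP12
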