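import Cfsg.Agent.H59.EP.UBGenFin
import Cfsg.Agent.H419.EP.Soc
import Cfsg.Prelude.Def_KGroupFacts

/-!
# S3499, small socles by the general bound UB1 + UB2 (helper481)

`card_le_ubq` : `|Q| ≤ ubq l` if `HasSoc A L`, `L` simple nonabelian and `|Aut L|` divides the number with factorisation
`l`; `card_le_core` : the same from the residual core.
-/

set_option autoImplicit false

namespace Cfsg.Agent.H481.EP12

open Subgroup Cfsg.Agent.H284 Cfsg.Agent.H419.EP Cfsg.Agent.H59.EP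
open scoped MatrixGroups

/-- the bound for `|Q|` -/
def ubq (l : List (ℕ × ℕ)) : ℕ :=
  (l.map fun x => x.1 ^ x.2).prod *
    (1 + ((l.map fun x => gal x.1 x.2).sum * ((l.map fun x => x.1 ^ x.2).prod / 6) +
      (l.map fun x => x.1 ^ x.2).prod ^ 2 / 60 + (l.map fun x => x.1 ^ x.2).prod ^ 3 / 12744000) *
      (2 * ((l.map fun x => x.1 ^ x.2).prod / 6)))

variable {Q : Type*} [Group Q] [Finite Q] {A : Subgroup Q} {Γ : Subgroup (MulAut Q)}

theorem card_le_ubq (hs : IsSimpleGroup Q) (h : EPT A Γ) {L : Type*} [Group L] [Finite L] (hS : HasSoc A L)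
    (hL : IsSimpleGroup L) (hLn : ¬ ∀ a b : L, a * b = b * a)
    (l : List (ℕ × ℕ)) (h1 : ∀ x ∈ l, x.1.Prime ∧ 0 < x.2) (h2 : (l.map Prod.fst).Nodup)
    (hc : Nat.card (MulAut L) ∣ (l.map fun x => x.1 ^ x.2).prod) (hB : (l.map fun x => x.1 ^ x.2).prod < 60 ^ 61) :
    Nat.card Q ≤ ubq l := by
  obtain ⟨f, hf⟩ := hS.exists_hom
  have hA : Nat.card A ∣ (l.map fun x => x.1 ^ x.2).prod := (Subgroup.card_dvd_of_injective f hf).trans hc
  have hpos : 0 < (l.map fun x => x.1 ^ x.2).prod := by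
    apply List.prod_pos
    intro n hn
    obtain ⟨x, hx, rfl⟩ := List.mem_map.1 hn
    exact pow_pos (h1 x hx).1.pos _
  have hle := Nat.le_of_dvd hpos hA
  have hi := EPT.index_le_gen_fin hs h (fun K k1 k2 k3 => hS.no_abelian hL hLn k1 k2 k3) l h1 h2 hA hB
  rw [← A.card_mul_index]
  refine Nat.mul_le_mul hle (hi.trans (Nat.add_le_add_left (Nat.mul_le_mul_left _ (Nat.mul_le_mul_left _ ?_)) 1))
  exact Nat.div_le_div_right hle

theorem card_le_core (hs : IsSimpleGroup Q) (h : EPT A Γ) {ι : Type} [Fintype ι] [DecidableEq ι] {F : Type} [Field F]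
    [Fintype F] {S : Subgroup (GL ι F)} (m : Model Q S) {P : Subgroup (GL ι F)}
    (hP : Cfsg.Geo.IsResidualCore (m.hat A) P) {L : Type*} [Group L]
    (e : (P ⧸ (Cfsg.Geo.scalars ι F).subgroupOf P) ≃* L)
    (l : List (ℕ × ℕ)) (h1 : ∀ x ∈ l, x.1.Prime ∧ 0 < x.2) (h2 : (l.map Prod.fst).Nodup)
    (hc : Nat.card (MulAut L) ∣ (l.map fun x => x.1 ^ x.2).prod) (hB : (l.map fun x => x.1 ^ x.2).prod < 60 ^ 61) :
    Nat.card Q ≤ ubq l := by
  have : Finite (GL ι F) := inferInstance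
  have : Finite (P ⧸ (Cfsg.Geo.scalars ι F).subgroupOf P) := Quotient.finite _
  refine card_le_ubq hs h (hasSoc_of_core m hP) hP.simple (fun hc => hP.nonabelian ⟨⟨hc⟩⟩) l h1 h2 ?_ hB
  rwa [Nat.card_congr (MulAut.congr e).toEquiv]

/-- `|Aut G|` divides `|G| |Out G|` -/
theorem card_aut_dvd (G : Type*) [Group G] [Finite G] : Nat.card (MulAut G) ∣ Nat.card G * Nat.card (Cfsg.Out G) := by
  rw [← (Cfsg.Inn G).card_mul_index]
  exact Nat.mul_dvd_mul_right (Subgroup.card_range_dvd _) _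

end Cfsg.Agent.H481.EP12
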